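import Cfsg.Agent.H269.OC.Sem
import Cfsg.Agent.H477.HC.Cus

/-!
# The character `θ` of order `q₀ + 1`, `|F| = q₀ ^ (p ^ k)` (helper269)
-/

set_option autoImplicit false

open scoped ComplexConjugate MatrixGroups
open Cfsg

namespace Cfsg.Agent.H269.OC

open Cfsg.Agent.Characters Cfsg.Agent.H53.HC Module Cfsg.Agent.H61.GowPlane Matrix Cfsg.Agent.H139.Cusp
open Cfsg.Agent.H732.ExtPSL

universe u v w

theorem pow_even {q : ℕ} {z : ℂ} (hz : z = 0 ∨ z ^ (q + 1) = 1) (hq : 0 < q) (m : ℕ) : z ^ q ^ (2 * m) = z := by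
  rcases hz with rfl | hz
  · exact zero_pow (pow_ne_zero _ hq.ne')
  · induction m with
    | zero => simp
    | succ m ih =>
      obtain ⟨r, rfl⟩ : ∃ r, q = r + 1 := ⟨q - 1, by omega⟩
      rw [Nat.mul_succ, pow_add, pow_mul, ih]
      have e : (r + 1) ^ 2 = (r + 1 + 1) * r + 1 := by ring
      rw [e, pow_succ, pow_mul, hz, one_pow, one_mul]

theorem pow_odd {q : ℕ} {z : ℂ} (hz : z = 0 ∨ z ^ (q + 1) = 1) (hq : 0 < q) (m : ℕ) :
    z ^ q ^ (2 * m + 1) = z ^ q := by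
  rw [pow_succ, pow_mul, pow_even hz hq]

theorem exists_datum (p : ℕ) [hp : Fact p.Prime] (hp2 : p ≠ 2) (F : Type u) [Field F] [Fintype F] [CharP F p] :
    ∃ (f₀ : ℕ) (L : Type) (_ : Field L) (_ : Finite L) (_ : Algebra F L) (θ : L →*₀ ℂ),
      ¬ p ∣ f₀ ∧ 0 < f₀ ∧ finrank F L = 2 ∧ Regular F 2 θ ∧ (∀ x, θ x = 0 ∨ θ x ^ (p ^ f₀ + 1) = 1) ∧
      (∀ c : Fˣ, θ (algebraMap F L c) = 1) ∧
      ∀ (n : ℕ) (τ : F ≃+* F) (g : GL (Fin n) F),
        Y F n θ (GeneralLinearGroup.map ((τ ^ f₀ : F ≃+* F) : F →+* F) g) = Y F n θ g := by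
  obtain ⟨f, -, hf⟩ := FiniteField.card F p
  obtain ⟨k, f₀, hf₀, hk⟩ := Nat.exists_eq_pow_mul_and_not_dvd f.pos.ne' p hp.out.one_lt.ne'
  have hpo : Odd p := hp.out.odd_of_ne_two hp2
  have hf₀pos : 0 < f₀ := by
    rcases Nat.eq_zero_or_pos f₀ with h | h
    · exact absurd (h ▸ dvd_zero p) hf₀
    · exact h
  obtain ⟨L, _, _, _, hL⟩ := Cfsg.Agent.H477.HC.exists_L F 2 (by norm_num)
  obtain ⟨θ₀, hθ₀⟩ := exists_theta L
  set q₀ := p ^ f₀ with hq₀
  have hq₀3 : 3 ≤ q₀ := by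
    have h1 : 3 ≤ p := by
      have := hp.out.two_le
      omega
    calc 3 ≤ p := h1
      _ = p ^ 1 := (pow_one p).symm
      _ ≤ p ^ f₀ := Nat.pow_le_pow_right hp.out.pos hf₀pos
  have hcard : Fintype.card F = q₀ ^ p ^ k := by rw [hf, hk, mul_comm, pow_mul]
  have hpk : Odd (p ^ k) := hpo.pow
  have hdvd : q₀ + 1 ∣ Fintype.card F + 1 := by
    have := Odd.nat_add_dvd_pow_add_pow q₀ 1 hpk
    rwa [one_pow, ← hcard] at this
  have hq1 : 1 < Fintype.card F := Fintype.one_lt_card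
  obtain ⟨s, hs⟩ := hdvd
  obtain ⟨r, hr⟩ : ∃ r, Fintype.card F = r + 1 := ⟨Fintype.card F - 1, by omega⟩
  have hcardL : Nat.card Lˣ = (q₀ + 1) * (r * s) := by
    have h1 : Nat.card L = (r + 1) ^ 2 := by
      rw [Module.natCard_eq_pow_finrank (K := F), hL, Nat.card_eq_fintype_card, hr]
    rw [Nat.card_units, h1]
    have h2 : (r + 1) ^ 2 = r * (r + 1 + 1) + 1 := by ring
    rw [h2, ← hr, hs]
    simp only [Nat.add_sub_cancel]
    ring
  have ha : r * s ≠ 0 := by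
    intro h0
    rw [h0, mul_zero] at hcardL
    have : 0 < Nat.card Lˣ := Nat.card_pos
    omega
  have hcardF : Nat.card F = r + 1 := by rw [Nat.card_eq_fintype_card, hr]
  have hreg : Regular F 2 (powTheta θ₀ (r * s) ha) := by
    rw [regular_powTheta_iff hθ₀ ha hL]
    intro i hi hi2 hdvd
    have hi1 : i = 1 := by omega
    subst hi1
    have h1 : Nat.card F ^ 2 - 1 = (r * s) * (q₀ + 1) := by
      rw [mul_comm, ← hcardL, Nat.card_units, Module.natCard_eq_pow_finrank (K := F) (V := L), hL]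
    rw [h1, hcardF, pow_one, Nat.add_sub_cancel] at hdvd
    have h2 : q₀ + 1 ∣ r := Nat.dvd_of_mul_dvd_mul_left (Nat.pos_of_ne_zero ha) hdvd
    have h3 : q₀ + 1 ∣ r + 2 := ⟨s, by rw [← hs, hr]⟩
    have h4 : q₀ + 1 ∣ 2 := (Nat.dvd_add_right h2).1 h3
    have := Nat.le_of_dvd (by norm_num) h4
    omega
  have hval : ∀ x, powTheta θ₀ (r * s) ha x = 0 ∨ powTheta θ₀ (r * s) ha x ^ (q₀ + 1) = 1 := by
    intro x
    by_cases hx : x = 0
    · left
      rw [hx, map_zero]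
    · right
      rw [powTheta_apply, ← pow_mul, mul_comm (r * s), ← hcardL, ← map_pow]
      have h3 : (Units.mk0 x hx) ^ Nat.card Lˣ = 1 := pow_card_eq_one'
      have h4 : x ^ Nat.card Lˣ = 1 := congrArg Units.val h3
      rw [h4, map_one]
  refine ⟨f₀, L, inferInstance, inferInstance, inferInstance, powTheta θ₀ (r * s) ha, hf₀, hf₀pos, hL, hreg, hval, ?_, ?_⟩
  · intro c
    exact powTheta_algebraMap ha (by rw [hcardF, Nat.add_sub_cancel]; exact dvd_mul_right _ _) c.ne_zero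
  · intro n τ g
    set θ := powTheta θ₀ (r * s) ha with hθ
    obtain ⟨j, hj⟩ := Cfsg.Agent.H53.HC.Gal.exists_frob_pow (p := p) τ
    have hj' : ∀ (m : ℕ) (x : F), (τ ^ m) x = x ^ p ^ (j * m) := by
      intro m
      induction m with
      | zero => intro x; simp
      | succ m ih =>
        intro x
        rw [pow_succ', RingAut.mul_apply, ih, hj, ← pow_mul, ← pow_add]
        rfl
    have hp0 : ∀ m, p ^ m ≠ 0 := fun m => pow_ne_zero _ hp.out.ne_zero
    have h1 := Y_frob p hL (hj' f₀) θ (hp0 _) g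
    have hrefl : ∀ x : F, (RingEquiv.refl F) x = x ^ p ^ (f : ℕ) := by
      intro x
      rw [← hf, FiniteField.pow_card]
      rfl
    have h2 := Y_frob p hL hrefl θ (hp0 _) g
    have h3 : GeneralLinearGroup.map ((RingEquiv.refl F : F ≃+* F) : F →+* F) g = g := by
      ext i l
      rfl
    rw [h3] at h2
    rw [h1]
    have e1 : p ^ (j * f₀) = q₀ ^ j := by rw [mul_comm, pow_mul]
    have e2 : p ^ (f : ℕ) = q₀ ^ p ^ k := by rw [hk, mul_comm, pow_mul]
    rcases Nat.even_or_odd' j with ⟨m, rfl | rfl⟩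
    · have h4 : powTheta θ (p ^ (2 * m * f₀)) (hp0 _) = θ := by
        ext x
        change θ x ^ p ^ (2 * m * f₀) = θ x
        rw [e1]
        exact pow_even (hval x) (by omega) m
      rw [h4]
    · obtain ⟨m', hm'⟩ := hpk
      have h4 : powTheta θ (p ^ ((2 * m + 1) * f₀)) (hp0 _) = powTheta θ (p ^ (f : ℕ)) (hp0 _) := by
        ext x
        change θ x ^ p ^ ((2 * m + 1) * f₀) = θ x ^ p ^ (f : ℕ)
        rw [e1, e2, hm']
        exact (pow_odd (hval x) (by omega) m).trans (pow_odd (hval x) (by omega) m').symm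
      rw [h4, ← h2]

end Cfsg.Agent.H269.OC
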