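import Cfsg.Agent.H61.GowPlane

/-!
# `∑ Ψ(g | W)` over the planes `W` of `Fⁿ`, `Ψ` cuspidal, any characteristic (helper269)

* `det_eq_one` : unipotent automorphisms have determinant one;
* `isIrr_cusp` : irreducibility on `SL_n(F)`, `n ≥ 3`;
* `not_dvd_card_planes` : the number of planes is prime to the characteristic.
-/

set_option autoImplicit false

open scoped ComplexConjugate MatrixGroups
open Cfsg

namespace Cfsg.Agent.H269.OC

open Cfsg.Agent.Characters Cfsg.Agent.H53.HC Module Cfsg.Agent.H61.GowFlag Cfsg.Agent.H61.GowGlue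
  Cfsg.Agent.H61.GowSigma Cfsg.Agent.H61.GowPlane Matrix

universe u v w

variable {F : Type u} [Field F]

/-- a unipotent automorphism has determinant one -/
theorem det_eq_one (p : ℕ) [hp : Fact p.Prime] [CharP F p] {V : Type v} [AddCommGroup V] [Module F V] {e : V ≃ₗ[F] V}
    (h : ∀ v, e (e v - v) = e v - v) : LinearEquiv.det e = 1 := by
  have h1 : ∀ (k : ℕ) (v : V), (e ^ k) v = v + (k : F) • (e v - v) := by
    intro k
    induction k with
    | zero => intro v; simp
    | succ k ih =>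
      intro v
      rw [pow_succ', LinearEquiv.mul_apply, ih, map_add, map_smul, h, Nat.cast_succ, add_smul, one_smul]
      abel
  have h2 : e ^ p = 1 := by
    ext v
    rw [h1, CharP.cast_eq_zero, zero_smul, add_zero]
    rfl
  have h3 : (LinearEquiv.det e : F) ^ p = 1 ^ p := by
    rw [← Units.val_pow_eq_pow_val, ← map_pow, h2, map_one, Units.val_one, one_pow]
  exact Units.ext (frobenius_inj F p h3)

variable [Fintype F]

/-- **Irreducibility, the cuspidal case.** -/
theorem isIrr_cusp (p : ℕ) [hp : Fact p.Prime] [CharP F p] {n : ℕ} (hn : 3 ≤ n) {G : Type w} [Group G] [Fintype G]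
    (ρ : G →* ((Fin n → F) ≃ₗ[F] (Fin n → F))) (hρ : ∀ e, LinearEquiv.det e = 1 → ∃ g, ρ g = e)
    {Ψ : GL (Fin 2) F → ℂ} (hΨ : IsIrrCharacter _ Ψ) (hcusp : IsCusp Ψ) :
    IsIrrCharacter G (flagChar ρ (planes F n) Ψ) := by
  refine isIrr_planes ρ hn {e | LinearEquiv.det e = 1} (fun e he => he) hρ hΨ ?_
  intro W₀ hW₀ W' hW' hne
  have hcf := Core.isIrr_isClassFunction hΨ
  have hdim : finrank F W₀ = 2 := hW₀
  have hdim' : finrank F W' = 2 := hW'
  have b₀ : Basis (Fin 2) F W₀ := finBasisOfFinrankEq F W₀ hdim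
  -- a line of `W₀` containing `W₀ ⊓ W'`
  obtain ⟨D, hD0, hD1, hD⟩ : ∃ D : Submodule F W₀, D ≠ ⊥ ∧ D ≠ ⊤ ∧ W'.comap W₀.subtype ≤ D := by
    by_cases h : W'.comap W₀.subtype = ⊥
    · obtain ⟨y, hy⟩ := Module.finrank_pos_iff_exists_ne_zero.1 (show 0 < finrank F W₀ by omega)
      refine ⟨Submodule.span F {y}, ?_, ?_, ?_⟩
      · rw [Ne, Submodule.span_singleton_eq_bot]
        exact hy
      · intro h'
        have h1 := finrank_span_singleton (K := F) hy
        rw [h', finrank_top] at h1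
        omega
      · rw [h]; exact bot_le
    · refine ⟨_, h, ?_, le_rfl⟩
      intro h'
      apply hne
      symm
      apply Submodule.eq_of_le_of_finrank_eq
      · intro x hx
        have : (⟨x, hx⟩ : W₀) ∈ W'.comap W₀.subtype := by rw [h']; trivial
        exact this
      · rw [hdim, hdim']
  refine ⟨radU D, fun u hu => ?_, fun {_} => hcusp.sum_eq hcf b₀ D hD0 hD1⟩
  have hfix : ∀ w : W₀, (w : Fin n → F) ∈ W' → u w = w := fun w hw => hu.2 w (hD hw)
  by_cases htop : W₀ ⊔ W' = ⊤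
  · obtain ⟨e, he1, he2⟩ := exists_glue W₀ W' u hfix
    refine ⟨e, ?_, he1, he2⟩
    refine det_eq_one p fun x => ?_
    have hx : x ∈ W₀ ⊔ W' := by rw [htop]; trivial
    obtain ⟨a, ha, b, hb, rfl⟩ := Submodule.mem_sup.1 hx
    have h4 : e a = u ⟨a, ha⟩ := he1 ⟨a, ha⟩
    have h5 : e (a + b) - (a + b) = ((u ⟨a, ha⟩ - ⟨a, ha⟩ : W₀) : Fin n → F) := by
      rw [map_add, he2 b hb, h4, Submodule.coe_sub]
      abel
    rw [h5, he1, hu.2 _ (hu.1 _)]
  · obtain ⟨e, he, he1, he2⟩ := exists_glue_det W₀ W' htop u hfix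
    exact ⟨e, he, he1, he2⟩

/-- the number of planes is prime to the characteristic -/
theorem not_dvd_card_planes (p : ℕ) [hp : Fact p.Prime] [CharP F p] {n : ℕ} (hn : 2 ≤ n) :
    ¬ p ∣ Nat.card (planes F n) := by
  intro h
  obtain ⟨k, -, hk⟩ := FiniteField.card F p
  have h1 := card_planes (F := F) hn
  have h2 : p ∣ (Fintype.card F ^ n - 1) * (Fintype.card F ^ (n - 1) - 1) := by
    rw [← h1]
    exact h.mul_right _
  have hq : p ∣ Fintype.card F := by
    rw [hk]
    exact dvd_pow_self p k.pos.ne'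
  have h3 : ∀ m, 0 < m → ¬ p ∣ Fintype.card F ^ m - 1 := by
    intro m hm h4
    have h5 : p ∣ Fintype.card F ^ m := dvd_pow hq hm.ne'
    have h6 : 0 < Fintype.card F ^ m := pow_pos Fintype.card_pos m
    have h7 : p ∣ 1 := by
      have := Nat.dvd_sub h5 h4
      rwa [Nat.sub_sub_self h6] at this
    exact hp.out.one_lt.ne' (Nat.dvd_one.1 h7)
  rcases hp.out.dvd_mul.1 h2 with h4 | h4
  · exact h3 n (by omega) h4
  · exact h3 (n - 1) (by omega) h4

end Cfsg.Agent.H269.OC
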