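import Cfsg.Agent.H269.OC.Datum
import Cfsg.Agent.H993.OC.Row
import Cfsg.Agent.Schreier.ClassPSL
import Cfsg.Agent.H61.GowPsl

/-!
# The row `PSL_n(K)`, `n ≥ 3`, of S4891, defining characteristic (helper269)

`ocRow_psl`.
-/

set_option autoImplicit false
set_option linter.unusedSectionVars false

open scoped ComplexConjugate MatrixGroups
open Cfsg

namespace Cfsg.Agent.H269.OC

open Cfsg.Agent.Characters Cfsg.Agent.H53.HC Module Cfsg.Agent.H61.GowPlane Matrix Cfsg.Agent.H139.Cusp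
open Cfsg.Agent.H732.ExtPSL Cfsg.Agent.H145.BR Cfsg.Agent.H993.OC
open Cfsg.Agent.ClassicalGeometry.AutPSL.Root (pr pr_surjective)
open Cfsg.Agent.ClassicalGeometry.AutPSL.Auto (cj fld lift itr coe_cj coe_fld_apply lift_pr itr_mul_itr)
open Cfsg.Agent.Schreier.ClassPSL (fld_mul_cj itr_mul_cj itr_mul_fld ctr)

universe u v w

section aut

variable {F : Type u} [Field F] {n : ℕ}

/-- `α` is induced by a semilinear map with field automorphism `σ` -/
def Sem (α : MulAut (ProjectiveSpecialLinearGroup (Fin n) F)) (σ : F ≃+* F) : Prop :=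
  ∃ A : GL (Fin n) F, α = lift (cj A * fld σ)

theorem Sem.mul {α β : MulAut (ProjectiveSpecialLinearGroup (Fin n) F)} {σ τ : F ≃+* F} (h : Sem α σ) (h' : Sem β τ) :
    Sem (α * β) (σ * τ) := by
  obtain ⟨A, rfl⟩ := h
  obtain ⟨B, rfl⟩ := h'
  refine ⟨A * Matrix.GeneralLinearGroup.map (σ : F →+* F) B, ?_⟩
  rw [← map_mul lift]
  congr 1
  calc cj A * fld σ * (cj B * fld τ) = cj A * (fld σ * cj B) * fld τ := by group
    _ = cj A * (cj (Matrix.GeneralLinearGroup.map (σ : F →+* F) B) * fld σ) * fld τ := by rw [fld_mul_cj]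
    _ = cj (A * Matrix.GeneralLinearGroup.map (σ : F →+* F) B) * fld (σ * τ) := by
      rw [map_mul, map_mul]; group

theorem Sem.pow {α : MulAut (ProjectiveSpecialLinearGroup (Fin n) F)} {σ : F ≃+* F} (h : Sem α σ) (m : ℕ) :
    Sem (α ^ m) (σ ^ m) := by
  induction m with
  | zero => exact ⟨1, by rw [pow_zero, pow_zero, map_one, map_one, one_mul, map_one]⟩
  | succ m ih =>
    rw [pow_succ, pow_succ]
    exact ih.mul h

theorem sem_sq (p : ℕ) [Fact p.Prime] [Fintype F] [CharP F p] (hn : 3 ≤ n)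
    (α : MulAut (ProjectiveSpecialLinearGroup (Fin n) F)) : ∃ σ, Sem (α ^ 2) σ := by
  rcases Cfsg.Agent.ClassicalGeometry.AutPSL.Main.surj_three p hn α with ⟨A, σ, rfl⟩ | ⟨A, σ, rfl⟩
  · exact ⟨σ ^ 2, (show Sem _ σ from ⟨A, rfl⟩).pow 2⟩
  · refine ⟨σ * σ, A * Matrix.GeneralLinearGroup.map (σ : F →+* F) (ctr A), ?_⟩
    rw [pow_two, ← map_mul]
    congr 1
    calc cj A * fld σ * itr * (cj A * fld σ * itr) = cj A * fld σ * (itr * cj A) * fld σ * itr := by group
      _ = cj A * (fld σ * cj (ctr A)) * (itr * fld σ) * itr := by rw [itr_mul_cj]; group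
      _ = cj A * (cj (Matrix.GeneralLinearGroup.map (σ : F →+* F) (ctr A)) * fld σ) * (fld σ * itr) * itr := by
        rw [fld_mul_cj, itr_mul_fld]
      _ = cj (A * Matrix.GeneralLinearGroup.map (σ : F →+* F) (ctr A)) * fld (σ * σ) * (itr * itr) := by
        rw [map_mul, map_mul]; group
      _ = cj (A * Matrix.GeneralLinearGroup.map (σ : F →+* F) (ctr A)) * fld (σ * σ) := by
        rw [itr_mul_itr, mul_one]

end aut

variable {F : Type u} [Field F] [Fintype F] {n : ℕ}

/-- **The row `PSL_n`, `n ≥ 3`.** -/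
theorem ocRow_psl {p : ℕ} [hp : Fact p.Prime] (hp2 : p ≠ 2) [CharP F p] (hn : 3 ≤ n) :
    OCRow p (ProjectiveSpecialLinearGroup (Fin n) F) := by
  classical
  intro 𝒜 h𝒜
  obtain ⟨f₀, L, _, _, _, θ, hf₀, hf₀pos, hL, hreg, hval, hsc, hinv⟩ := exists_datum p hp2 F
  have hirr := Y_irr p hn hL hreg
  have hfinSL : Finite (SpecialLinearGroup (Fin n) F) := inferInstance
  let _ : Fintype (Subgroup.center (SpecialLinearGroup (Fin n) F)) := Fintype.ofFinite _
  have hpos : 0 < Nat.card (planes F n) := lt_trans zero_lt_one (one_lt_card_planes hn)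
  obtain ⟨f, -, hf⟩ := FiniteField.card F p
  have hq1 : 1 < Fintype.card F := Fintype.one_lt_card
  have hpF : p ∣ Fintype.card F := by
    rw [hf]; exact dvd_pow_self p f.pos.ne'
  have hcF : Nat.card F = Fintype.card F := Nat.card_eq_fintype_card
  have hone : Y F n θ (SpecialLinearGroup.toGL (1 : SpecialLinearGroup (Fin n) F)) =
      ((Nat.card (planes F n) * (Nat.card F - 1) : ℕ) : ℂ) := by rw [map_one, Y_one]
  obtain ⟨χ, hχ⟩ := Blocks.Deflate.exists_deflation (Subgroup.center (SpecialLinearGroup (Fin n) F)) _ hirr (by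
    rw [Finset.sum_congr rfl (g := fun _ => Y F n θ (SpecialLinearGroup.toGL (1 : SpecialLinearGroup (Fin n) F)))
      (fun z _ => ?_)]
    · rw [Finset.sum_const, hone, nsmul_eq_mul, ← Nat.cast_mul, Nat.cast_ne_zero]
      refine Nat.mul_ne_zero (Finset.card_ne_zero_of_mem (Finset.mem_univ 1)) (Nat.mul_ne_zero hpos.ne' ?_)
      omega
    · obtain ⟨r, hr, hz⟩ := (Matrix.SpecialLinearGroup.mem_center_iff).1 z.2
      have hr0 : r ≠ 0 := by
        rintro rfl
        rw [Fintype.card_fin, zero_pow (by omega)] at hr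
        exact zero_ne_one hr
      rw [map_one]
      exact Y_scalar θ hL (c := Units.mk0 r hr0) hz.symm (hsc _))
  have hvalχ : ∀ g : SpecialLinearGroup (Fin n) F, Y F n θ (SpecialLinearGroup.toGL g) =
      (χ : ProjectiveSpecialLinearGroup (Fin n) F → ℂ) (pr g) := fun g => congrFun hχ g
  have hχ1 : (χ : ProjectiveSpecialLinearGroup (Fin n) F → ℂ) 1 =
      ((Nat.card (planes F n) * (Nat.card F - 1) : ℕ) : ℂ) := by
    rw [← hone, hvalχ]
    rfl
  refine ⟨χ, χ.2, ?_, ⟨_, hχ1, ?_⟩, ?_, ?_⟩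
  · intro h
    rw [h, Pi.one_apply, ← Nat.cast_one, Nat.cast_inj] at hχ1
    have := one_lt_card_planes (F := F) hn
    have h2 := Nat.eq_one_of_mul_eq_one_right hχ1.symm
    omega
  · rw [hp.out.dvd_mul]
    rintro (h | h)
    · exact not_dvd_card_planes p (by omega) h
    · have h1 : p ∣ 1 := by
        have := Nat.dvd_sub (hcF ▸ hpF) h
        rwa [Nat.sub_sub_self (by omega)] at this
      exact hp.out.one_lt.ne' (Nat.dvd_one.1 h1)
  · -- values
    refine ⟨p ^ f₀ + 1, ?_, fun g => ?_⟩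
    · intro h
      have h1 : p ∣ 1 := (Nat.dvd_add_right (dvd_pow_self p hf₀pos.ne')).1 h
      exact hp.out.one_lt.ne' (Nat.dvd_one.1 h1)
    · obtain ⟨g, rfl⟩ := pr_surjective g
      rw [← hvalχ]
      have hne : p ^ f₀ + 1 ≠ 0 := Nat.succ_ne_zero _
      have hprim := Complex.isPrimitiveRoot_exp (p ^ f₀ + 1) hne
      have : NeZero (p ^ f₀ + 1) := ⟨hne⟩
      refine Cfsg.Agent.H61.GowFlag.flagChar_mem (n := 2)
        ((rep F n).comp (SpecialLinearGroup.toGL : SpecialLinearGroup (Fin n) F →* GL (Fin n) F)) (planes F n)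
        (IntermediateField.adjoin ℚ ({Complex.exp (2 * Real.pi * Complex.I / ((p ^ f₀ + 1 : ℕ) : ℂ))} : Set ℂ)).toSubring
        (fun A => Cfsg.Agent.H61.GowPsl.psi_mem L θ (fun x => ?_) A) g
      rcases hval x with h | h
      · rw [h]; exact zero_mem _
      · obtain ⟨i, -, hi⟩ := hprim.eq_pow_of_pow_eq_one h
        rw [← hi]
        exact pow_mem (IntermediateField.subset_adjoin ℚ _ (Set.mem_singleton _)) i
  · -- invariance
    have key : ∀ α : MulAut (ProjectiveSpecialLinearGroup (Fin n) F), ∀ x,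
        (χ : ProjectiveSpecialLinearGroup (Fin n) F → ℂ) ((α ^ (2 * f₀)) x) = (χ : _ → ℂ) x := by
      intro α x
      obtain ⟨σ, hσ⟩ := sem_sq p hn α
      obtain ⟨A, hA⟩ := hσ.pow f₀
      obtain ⟨g, rfl⟩ := pr_surjective x
      rw [pow_mul, hA, lift_pr, ← hvalχ, ← hvalχ]
      have h1 : SpecialLinearGroup.toGL ((cj A * fld (σ ^ f₀) : MulAut (SpecialLinearGroup (Fin n) F)) g) =
          A * GeneralLinearGroup.map ((σ ^ f₀ : F ≃+* F) : F →+* F) (SpecialLinearGroup.toGL g) * A⁻¹ := by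
        apply Units.ext
        rfl
      rw [h1, Y_class, hinv]
    let H : Subgroup (MulAut (ProjectiveSpecialLinearGroup (Fin n) F)) :=
      { carrier := {α | ∀ x, (χ : ProjectiveSpecialLinearGroup (Fin n) F → ℂ) (α x) = (χ : _ → ℂ) x}
        one_mem' := fun x => rfl
        mul_mem' := fun {a b} ha hb x => by rw [MulAut.mul_apply, ha, hb]
        inv_mem' := fun {a} ha x => by
          have h := ha (a⁻¹ x)
          rw [MulAut.apply_inv_self] at h
          exact h.symm }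
    intro a ha
    have h1 : a ^ (2 * f₀) ∈ H := key a
    obtain ⟨k, hk⟩ := h𝒜 ⟨a, ha⟩
    have hk' : a ^ p ^ k = 1 := congrArg Subtype.val hk
    have h2 : a ^ p ^ k ∈ H := by rw [hk']; exact one_mem _
    have hcop : (2 * f₀).Coprime (p ^ k) := by
      apply Nat.Coprime.pow_right
      rw [Nat.coprime_comm, Nat.Prime.coprime_iff_not_dvd hp.out, hp.out.dvd_mul]
      rintro (h | h)
      · exact hp2 ((Nat.prime_dvd_prime_iff_eq hp.out Nat.prime_two).1 h)
      · exact hf₀ h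
    have h3 : (((2 * f₀ : ℕ) : ℤ) * (2 * f₀).gcdA (p ^ k) + ((p ^ k : ℕ) : ℤ) * (2 * f₀).gcdB (p ^ k)) = 1 := by
      rw [← Nat.gcd_eq_gcd_ab, hcop.gcd_eq_one]; rfl
    have h4 : a = (a ^ (2 * f₀)) ^ ((2 * f₀).gcdA (p ^ k)) * (a ^ p ^ k) ^ ((2 * f₀).gcdB (p ^ k)) := by
      rw [← zpow_natCast, ← zpow_natCast, ← _root_.zpow_mul, ← _root_.zpow_mul, ← _root_.zpow_add, h3, _root_.zpow_one]
    have h5 : a ∈ H := by
      rw [h4]
      exact H.mul_mem (H.zpow_mem h1 _) (H.zpow_mem h2 _)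
    exact h5

end Cfsg.Agent.H269.OC
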