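import Cfsg.Agent.H269.OC.Plane
import Cfsg.Agent.H732.ExtPSL.Twist
import Cfsg.Agent.H53.HC.Gal

/-!
# The characters `Y θ g = ∑ psi θ (g | W)` of `GL_n(F)`, `W` running over the planes (helper269)

`[L : F] = 2`, `θ : L →*₀ ℂ`.

* `Y_class`, `Y_map` : conjugation, field automorphisms;
* `Y_frob` : `Y θ (τ g) = Y (θ ^ p ^ j) g` if `τ x = x ^ p ^ j`.
-/

set_option autoImplicit false
set_option linter.unusedSectionVars false

open scoped ComplexConjugate MatrixGroups
open Cfsg

namespace Cfsg.Agent.H269.OC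

open Cfsg.Agent.Characters Cfsg.Agent.H53.HC Module Cfsg.Agent.H61.GowPlane Matrix Cfsg.Agent.H139.Cusp
open Cfsg.Agent.H732.ExtPSL

universe u v w

variable {F : Type u} [Field F] [Fintype F] {L : Type w} [Field L] [Finite L] [Algebra F L]

/-- **the characters** -/
noncomputable def Y (F : Type u) [Field F] [Fintype F] {L : Type w} [Field L] [Algebra F L] (n : ℕ) (θ : L →*₀ ℂ) :
    GL (Fin n) F → ℂ := flagChar (n := 2) (rep F n) (planes F n) (psi L θ)

variable {n : ℕ}

theorem Y_class (θ : L →*₀ ℂ) (g h : GL (Fin n) F) : Y F n θ (h * g * h⁻¹) = Y F n θ g := by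
  classical
  unfold Y flagChar
  let e : planes F n ≃ planes F n :=
    letI := subAct (rep F n) (planes F n) (planes_stable (rep F n))
    MulAction.toPerm h
  symm
  refine Fintype.sum_equiv e _ _ fun W => ?_
  exact (flagTerm_conj (rep F n) (psi_isClass L θ) h g W.1).symm

/-- **field automorphisms** -/
theorem Y_map (hL : finrank F L = 2) {σ : F ≃+* F} {τ : L ≃+* L}
    (hτ : ∀ c : F, τ (algebraMap F L c) = algebraMap F L (σ c)) {θ θ' : L →*₀ ℂ} (hθ : ∀ x, θ' (τ x) = θ x)
    (g : GL (Fin n) F) : Y F n θ' (GeneralLinearGroup.map (σ : F →+* F) g) = Y F n θ g := by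
  classical
  unfold Y flagChar
  have hfr : ∀ (σ : F ≃+* F) (W : Submodule F (Fin n → F)), finrank F (smap σ W) = finrank F W := fun σ W =>
    finrank_semilinear σ (smapE σ W)
  let e : planes F n ≃ planes F n :=
    { toFun := fun W => ⟨smap σ W.1, (hfr σ W.1).trans W.2⟩
      invFun := fun W => ⟨smap σ.symm W.1, (hfr σ.symm W.1).trans W.2⟩
      left_inv := fun W => Subtype.ext (smap_symm_smap σ W.1)
      right_inv := fun W => Subtype.ext (smap_smap_symm σ W.1) }
  symm
  refine Fintype.sum_equiv e _ _ fun W => ?_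
  change flagTerm (n := 2) (rep F n) (psi L θ) g W.1 =
    flagTerm (n := 2) (rep F n) (psi L θ') (GeneralLinearGroup.map (σ : F →+* F) g) (smap σ W.1)
  by_cases h : W.1.map (rep F n g : (Fin n → F) →ₗ[F] (Fin n → F)) = W.1
  · have h' := (map_smap_iff σ g W.1).2 h
    have hW : finrank F W.1 = 2 := W.2
    rw [flagTerm_of _ _ h, flagTerm_of _ _ h', cl_psi L θ hW, cl_psi L θ' ((hfr σ W.1).trans hW)]
    symm
    refine cusp_semilinear σ (smapE σ W.1) (smapE_smul σ W.1) (fun v => ?_) τ hτ hθ (by rw [hW, hL])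
    apply Subtype.ext
    exact rep_map σ g (v : Fin n → F)
  · have h' : ¬ _ := fun h' => h ((map_smap_iff σ g W.1).1 h')
    unfold flagTerm
    rw [dif_neg h, dif_neg h']

/-- **Frobenius** -/
theorem Y_frob (p : ℕ) [hp : Fact p.Prime] [CharP F p] (hL : finrank F L = 2) {τ : F ≃+* F} {j : ℕ}
    (hτ : ∀ x, τ x = x ^ p ^ j) (θ : L →*₀ ℂ) (hj : p ^ j ≠ 0) (g : GL (Fin n) F) :
    Y F n θ (GeneralLinearGroup.map (τ : F →+* F) g) = Y F n (powTheta θ (p ^ j) hj) g := by
  obtain ⟨σ, h1, h2⟩ := Cfsg.Agent.H53.HC.Gal.exists_ext (L := L) hτ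
  refine Y_map hL h2 (fun x => ?_) g
  rw [powTheta_apply, h1, map_pow]

/-- the restriction to `SL` -/
theorem Y_sl (θ : L →*₀ ℂ) (g : SpecialLinearGroup (Fin n) F) :
    Y F n θ (SpecialLinearGroup.toGL g) =
      flagChar (n := 2) ((rep F n).comp (SpecialLinearGroup.toGL : SpecialLinearGroup (Fin n) F →* GL (Fin n) F))
        (planes F n) (psi L θ) g := rfl

/-- irreducibility on `SL` -/
theorem Y_irr (p : ℕ) [hp : Fact p.Prime] [CharP F p] (hn : 3 ≤ n) (hL : finrank F L = 2) {θ : L →*₀ ℂ}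
    (hθ : Regular F 2 θ) : IsIrrCharacter (SpecialLinearGroup (Fin n) F)
      (fun g => Y F n θ (SpecialLinearGroup.toGL g)) := by
  let _ : Fintype (SpecialLinearGroup (Fin n) F) := Fintype.ofFinite _
  exact isIrr_cusp p hn _ hasSL_rep_sl (psi_isIrr θ hL hθ) (psi_isCusp L θ)

theorem Y_one (θ : L →*₀ ℂ) : Y F n θ 1 = ((Nat.card (planes F n) * (Nat.card F - 1) : ℕ) : ℂ) := by
  unfold Y
  rw [flagChar_one (rep F n) (planes F n) (psi_isClass L θ) (fun W hW => hW), psi_one L θ (by norm_num), degP]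
  simp

theorem Y_scalar (θ : L →*₀ ℂ) (hL : finrank F L = 2) {z : SpecialLinearGroup (Fin n) F} {c : Fˣ}
    (hz : (z : Matrix (Fin n) (Fin n) F) = Matrix.scalar (Fin n) (c : F)) (hc : θ (algebraMap F L c) = 1) :
    Y F n θ (SpecialLinearGroup.toGL z) = Y F n θ 1 := by
  have h1 := flagChar_scalar ((rep F n).comp (SpecialLinearGroup.toGL : SpecialLinearGroup (Fin n) F →* GL (Fin n) F))
    (planes F n) (psi_isClass L θ) (fun W hW => hW) (z := z) (c := c) (fun v => ?_) ?_
  · have h2 : Y F n θ 1 = Y F n θ (SpecialLinearGroup.toGL (1 : SpecialLinearGroup (Fin n) F)) := by rw [map_one]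
    rw [h2]
    exact h1
  · change rep F n (SpecialLinearGroup.toGL z) v = _
    rw [rep_apply]
    have h3 : ((SpecialLinearGroup.toGL z : GL (Fin n) F) : Matrix (Fin n) (Fin n) F) = z := rfl
    rw [h3, hz, Matrix.scalar_apply]
    ext i
    rw [Matrix.mulVec_diagonal]
    rfl
  · rw [← mul_one (GeneralLinearGroup.scalar (Fin 2) c), psi_scalar _ hL, hc, one_mul]

end Cfsg.Agent.H269.OC
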